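import Mathlib.AlgebraicGeometry.Morphisms.FormallyUnramified
import Mathlib.AlgebraicGeometry.Morphisms.Immersion
import Mathlib.AlgebraicGeometry.Morphisms.OpenImmersion
import Mathlib.AlgebraicGeometry.Noetherian

/-!
# Kernel pairs over formally unramified targets are open
-/

set_option autoImplicit false
universe u

open CategoryTheory Limits AlgebraicGeometry

namespace Groth.Agent.EtHull16

/-- Unique lifting along nilpotent thickenings, existence part. -/
def LiftsThickenings {R U : Scheme.{u}} (c : R ⟶ U) : Prop :=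
  ∀ (Z' Z : Scheme.{u}) (i : Z' ⟶ Z), IsClosedImmersion i → IsNilpotent i.ker →
    ∀ (t : Z ⟶ U) (s : Z' ⟶ R), s ≫ c = i ≫ t → ∃ l : Z ⟶ R, l ≫ c = t

theorem LiftsThickenings.baseChange {R U U' : Scheme.{u}} {c : R ⟶ U} (h : LiftsThickenings c)
    (j : U' ⟶ U) : LiftsThickenings (pullback.snd c j) := by
  intro Z' Z i hi hn t s hs
  obtain ⟨l, hl⟩ := h Z' Z i hi hn (t ≫ j) (s ≫ pullback.fst c j) (by
    rw [Category.assoc, pullback.condition, reassoc_of% hs])
  exact ⟨pullback.lift l t hl, pullback.lift_snd _ _ _⟩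

/-- A closed immersion lifting thickenings into a locally Noetherian scheme is open. -/
theorem isOpenImmersion_of_lifts {R U : Scheme.{u}} [IsLocallyNoetherian U] (c : R ⟶ U)
    [IsClosedImmersion c] (h : LiftsThickenings c) : IsOpenImmersion c := by
  wlog hU : ∃ A, U = Spec A generalizing R U
  · rw [IsZariskiLocalAtTarget.iff_of_openCover (P := @IsOpenImmersion) U.affineCover]
    intro i
    haveI hN : IsLocallyNoetherian (U.affineCover.X i) :=
      isLocallyNoetherian_of_isOpenImmersion (U.affineCover.f i)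
    apply this (pullback.snd c (U.affineCover.f i)) (h.baseChange _) ⟨_, rfl⟩
  obtain ⟨A, rfl⟩ := hU
  haveI : IsNoetherianRing A := isLocallyNoetherian_Spec.mp ‹_›
  obtain ⟨I, e, he⟩ := IsClosedImmersion.Spec_iff.mp ‹IsClosedImmersion c›
  have hsurj : Function.Surjective (CommRingCat.ofHom (Ideal.Quotient.mk I)).hom :=
    Ideal.Quotient.mk_surjective
  suffices IsOpenImmersion (Spec.map (CommRingCat.ofHom (Ideal.Quotient.mk I))) by
    rw [he]; infer_instance
  rw [isOpenImmersion_SpecMap_iff_of_surjective _ hsurj]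
  let φ : A ⧸ I ^ 2 →+* A ⧸ I := Ideal.Quotient.factor (Ideal.pow_le_self two_ne_zero)
  let i := Spec.map (CommRingCat.ofHom φ)
  have hφs : Function.Surjective φ := Ideal.Quotient.factor_surjective _
  haveI : IsClosedImmersion i := IsClosedImmersion.spec_of_surjective _ hφs
  have hn : IsNilpotent i.ker := by
    refine ⟨2, Scheme.IdealSheafData.ext_of_isAffine ?_⟩
    rw [Scheme.IdealSheafData.ideal_pow, Pi.pow_apply, Scheme.Hom.ker_apply]
    refine le_antisymm ?_ bot_le
    refine le_of_eq_of_le (pow_two _) (Ideal.mul_le.mpr ?_)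
    intro a ha b hb
    rw [RingHom.mem_ker] at ha hb
    have key : ∀ x : Γ(Spec (CommRingCat.of (A ⧸ I ^ 2)), ⊤), i.appTop x = 0 →
        φ ((Scheme.ΓSpecIso (CommRingCat.of (A ⧸ I ^ 2))).hom x) = 0 := fun x hx => by
      have := congr($(Scheme.ΓSpecIso_naturality (CommRingCat.ofHom φ)) x)
      erw [CommRingCat.comp_apply, CommRingCat.comp_apply] at this
      erw [hx, map_zero] at this
      exact this.symm
    have hinj := (ConcreteCategory.bijective_of_isIso (C := CommRingCat)
      (Scheme.ΓSpecIso (CommRingCat.of (A ⧸ I ^ 2))).hom).1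
    change a * b = 0
    refine hinj ?_
    rw [map_mul, map_zero]
    obtain ⟨a', ha'⟩ := Ideal.Quotient.mk_surjective ((Scheme.ΓSpecIso (CommRingCat.of (A ⧸ I ^ 2))).hom a)
    obtain ⟨b', hb'⟩ := Ideal.Quotient.mk_surjective ((Scheme.ΓSpecIso (CommRingCat.of (A ⧸ I ^ 2))).hom b)
    have ka := key a ha
    have kb := key b hb
    rw [← ha', Ideal.Quotient.factor_mk, Ideal.Quotient.eq_zero_iff_mem] at ka
    rw [← hb', Ideal.Quotient.factor_mk, Ideal.Quotient.eq_zero_iff_mem] at kb
    rw [← ha', ← hb', ← map_mul, Ideal.Quotient.eq_zero_iff_mem, pow_two]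
    exact Ideal.mul_mem_mul ka kb
  obtain ⟨l, hl⟩ := h _ _ i inferInstance hn (Spec.map (CommRingCat.ofHom (Ideal.Quotient.mk (I ^ 2))))
    e.inv (by
      rw [he, e.inv_hom_id_assoc, ← Spec.map_comp]
      rfl)
  obtain ⟨ψ, hψ⟩ := Spec.map_surjective (l ≫ e.hom)
  have hψ' : CommRingCat.ofHom (Ideal.Quotient.mk I) ≫ ψ = CommRingCat.ofHom (Ideal.Quotient.mk (I ^ 2)) :=
    Spec.map_injective (by rw [Spec.map_comp, hψ, Category.assoc, ← he, hl])
  have hle : I ≤ I ^ 2 := fun x hx => by
    rw [← Ideal.Quotient.eq_zero_iff_mem]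
    have := congr($hψ' x)
    erw [CommRingCat.comp_apply, (Ideal.Quotient.eq_zero_iff_mem).mpr hx, map_zero] at this
    exact this.symm
  obtain ⟨x, hx, hxI⟩ := (Ideal.isIdempotentElem_iff_of_fg I (IsNoetherian.noetherian I)).mp
    (le_antisymm Ideal.mul_le_left (by rw [← pow_two]; exact hle))
  refine ⟨x, hx, ?_⟩
  rw [CommRingCat.hom_ofHom, Ideal.mk_ker]
  exact hxI

variable {X Y S : Scheme.{u}}

/-- The kernel pair of a map into a formally unramified `S`-scheme is open in the product over `S`. -/
theorem isOpenImmersion_mapDesc (a : X ⟶ S) (b : Y ⟶ S) [FormallyUnramified b] (h : X ⟶ Y)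
    (w : h ≫ b = a) [IsLocallyNoetherian (pullback a a)] :
    IsOpenImmersion (pullback.lift (pullback.fst h h) (pullback.snd h h)
      (by rw [← w, pullback.condition_assoc]) : pullback h h ⟶ pullback a a) := by
  let e : pullback h h ⟶ pullback a a := pullback.lift (pullback.fst h h) (pullback.snd h h)
    (by rw [← w, pullback.condition_assoc])
  subst w
  haveI : IsImmersion e := by
    haveI : IsImmersion (pullback.diagonal b) := inferInstance
    exact MorphismProperty.of_isPullback (P := @IsImmersion) (pullback_map_diagonal_isPullback h h b)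
      inferInstance
  have hlift : LiftsThickenings e := by
    intro Z' Z i hi hn t s hs
    have h1 : i ≫ (t ≫ pullback.fst _ _ ≫ h) = i ≫ (t ≫ pullback.snd _ _ ≫ h) := by
      rw [← reassoc_of% hs, ← reassoc_of% hs, pullback.lift_fst_assoc, pullback.lift_snd_assoc,
        pullback.condition]
    have h2 := FormallyUnramified.hom_ext i hn b h1 (by simp only [Category.assoc, pullback.condition])
    refine ⟨pullback.lift (t ≫ pullback.fst _ _) (t ≫ pullback.snd _ _) (by simpa using h2), ?_⟩
    apply pullback.hom_ext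
    · rw [Category.assoc, pullback.lift_fst, pullback.lift_fst]
    · rw [Category.assoc, pullback.lift_snd, pullback.lift_snd]
  have hc : LiftsThickenings e.liftCoborder := by
    intro Z' Z i hi hn t s hs
    obtain ⟨l, hl⟩ := hlift Z' Z i hi hn (t ≫ e.coborderRange.ι) s (by
      rw [← reassoc_of% hs, Scheme.Hom.liftCoborder_ι])
    exact ⟨l, by rw [← cancel_mono e.coborderRange.ι, Category.assoc, Scheme.Hom.liftCoborder_ι, hl]⟩
  haveI := isOpenImmersion_of_lifts e.liftCoborder hc
  show IsOpenImmersion e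
  rw [← Scheme.Hom.liftCoborder_ι e]
  infer_instance

end Groth.Agent.EtHull16
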