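import Groth.Agent.GrpdLib.EpiMonoFactor
import Groth.Agent.EtHull16.FormEt

/-!
# Factorization of morphisms with flat kernel pair, relative finite presentation
-/

set_option autoImplicit false
set_option backward.isDefEq.respectTransparency false
set_option backward.isDefEq.respectTransparency.types false

universe u

open CategoryTheory CategoryTheory.Limits AlgebraicGeometry Opposite

namespace Groth.Agent.EtHull16.Factor

open _root_.AlgSp
open Groth.Agent.GrpdLib Groth.Agent.GrpdLib.EpiMonoFactor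
open Groth.Agent.AlgSp (exists_cover_lift mem_of_cover yEquiv yEquiv_map yπ isPullback_yπ
  isLocallySurjective_yπ mono_of_yon isLocallySurjective_prodMap)

variable {X Y : Scheme.{u}} (f : X ⟶ Y)

/-- A morphism of finite presentation with flat kernel pair is fppf followed by a monomorphism. -/
theorem exists_factor {S : Scheme.{u}} (c : Y ⟶ S) [LocallyOfFinitePresentation (f ≫ c)]
    (hfst : Flat (pullback.fst f f)) (hlfp : LocallyOfFinitePresentation (pullback.fst f f)) :
    ∃ (X' : Scheme.{u}) (f' : X ⟶ X') (f'' : X' ⟶ Y),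
      Surjective f' ∧ Flat f' ∧ LocallyOfFinitePresentation f' ∧ Mono f'' ∧ f' ≫ f'' = f := by
  have : Flat (p₁ f).left := hfst
  have : LocallyOfFinitePresentation (p₁ f).left := hlfp
  have : Flat (p₂ f).left := by
    show Flat (pullback.snd f f)
    rw [← pullbackSymmetry_hom_comp_fst]
    infer_instance
  have : LocallyOfFinitePresentation (p₂ f).left := by
    show LocallyOfFinitePresentation (pullback.snd f f)
    rw [← pullbackSymmetry_hom_comp_fst]
    infer_instance
  have : Surjective (p₁ f).left :=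
    ⟨fun x => ⟨pullback.diagonal f x, by
      show pullback.fst f f _ = x
      rw [← Scheme.Hom.comp_apply, pullback.diagonal_fst]; rfl⟩⟩
  have heq := isEqvRel f
  obtain ⟨hd, hp, hsu⟩ := Groth.Agent.AlgSpB.Art.cover_yπ heq
  have hF : IsAlgSpace (QuotSh.quot Scheme.fppfPrecoverage (p₁ f) (p₂ f)) :=
    Groth.Agent.AlgSpB.Art.isAlgSpace_of_fppf_cover hd _ hp hsu
  let F := QuotSh.quot Scheme.fppfPrecoverage (p₁ f) (p₂ f)
  let T : Over Y := Over.mk (𝟙 Y)
  let q : src f ⟶ T := Over.homMk f (Category.comp_id f)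
  have w : p₁ f ≫ q = p₂ f ≫ q := Over.OverMorphism.ext pullback.condition
  let ψ : F ⟶ (yon Y).obj T := QuotSh.quotDesc Scheme.fppfPrecoverage q w ≫
    (QuotSh.repIsoUliftYoneda Scheme.fppfPrecoverage T).hom
  have hψ : yπ (p₁ f) (p₂ f) ≫ ψ = (yon Y).map q := by
    have hπ : QuotSh.quotπ Scheme.fppfPrecoverage (p₁ f) (p₂ f) ≫
        QuotSh.quotDesc Scheme.fppfPrecoverage q w = QuotSh.repMap Scheme.fppfPrecoverage q :=
      coequalizer.π_desc _ _
    simp only [yπ, ψ, Category.assoc, reassoc_of% hπ]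
    rw [← Category.assoc, Groth.Agent.AlgSp.repMap_repIso, Category.assoc, Iso.inv_hom_id,
      Category.comp_id]
  have sq := isPullback_yπ (p₁ f) (p₂ f) heq
  have := isLocallySurjective_yπ (p₁ f) (p₂ f)
  have : Mono ψ := mono_of_kernelPair _ sq ψ fun W u v _ => exists_rel f u v
  have hlft : LocP @LocallyOfFiniteType ψ := by
    intro A B a b h ha hb e
    obtain ⟨W, k, l, sqW⟩ := Groth.Agent.AlgSpB.exists_pullback_yon ha.1 (yπ (p₁ f) (p₂ f))
    have hk : (@Flat ⊓ @LocallyOfFinitePresentation : MorphismProperty Scheme.{u}) k.left ∧ Surjective k.left :=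
      ⟨hp.2 _ _ _ sqW.flip, hsu.2 _ _ _ sqW.flip⟩
    have hl : Etale l.left := ha.2 _ _ _ sqW
    obtain ⟨⟨hkf, hkp⟩, hks⟩ := hk
    have : LocallyOfFinitePresentation (k.left ≫ A.hom ≫ c) := by
      rw [← Category.assoc, Over.w k, ← Over.w l, Category.assoc]
      exact inferInstanceAs (LocallyOfFinitePresentation (l.left ≫ (f ≫ c)))
    have := FppfSourceDescent.locallyOfFinitePresentation_of_comp_fppf k.left (A.hom ≫ c)
    have : LocallyOfFiniteType A.hom := locallyOfFiniteType_of_comp A.hom c
    have : LocallyOfFiniteType (h.left ≫ B.hom) := by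
      rw [Over.w h]; infer_instance
    exact locallyOfFiniteType_of_comp h.left B.hom
  obtain ⟨O, ⟨E⟩⟩ := Groth.Agent.AlgSpB.exists_iso_of_lqf_sep hF ψ
    (Groth.Agent.AlgSpB.locP_lqf_of_mono hF ψ hlft) (Groth.Agent.AlgSpB.isSeparatedMor_of_mono ψ)
  obtain ⟨g, hg⟩ := (yon Y).map_surjective (yπ (p₁ f) (p₂ f) ≫ E.inv)
  obtain ⟨j, hj⟩ := (yon Y).map_surjective (E.hom ≫ ψ)
  have hP : ∀ (P : MorphismProperty Scheme.{u}) [P.IsStableUnderBaseChange],
      RepWith P (yπ (p₁ f) (p₂ f)) → P g.left := fun P _ h => by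
    have : (RepWith P : MorphismProperty (Sp Y)).RespectsIso := inferInstance
    refine (repWith_yon_map_iff P g).1 ?_
    rw [hg]
    exact (MorphismProperty.cancel_right_of_respectsIso _ _ _).2 h
  have hgj : g ≫ j = q := (yon Y).map_injective (by
    rw [Functor.map_comp, hg, hj, Category.assoc, E.inv_hom_id_assoc, hψ])
  refine ⟨O.left, g.left, j.left, hP @Surjective hsu, ?_, ?_, ?_, congr(($hgj).left)⟩
  · exact (hP (@Flat ⊓ @LocallyOfFinitePresentation) hp).1
  · exact (hP (@Flat ⊓ @LocallyOfFinitePresentation) hp).2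
  · have : Mono ((yon Y).map j) := by rw [hj]; infer_instance
    have hjm : Mono j := (yon Y).mono_of_mono_map this
    refine ⟨fun {Z} a b hab => ?_⟩
    have := hjm.right_cancellation (Z := Over.mk (a ≫ O.hom)) (Over.homMk a rfl)
      (Over.homMk b (by
        show b ≫ O.hom = a ≫ O.hom
        rw [← Over.w j, reassoc_of% hab]))
      (Over.OverMorphism.ext hab)
    exact congr(($this).left)

end Groth.Agent.EtHull16.Factor
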