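import Groth.Agent.EtHull16.Factor
import Groth.Agent.GrpdLib.FppfSourceDescentScheme
import Groth.Agent.Thick.FlatCancel
import Groth.Agent.S5075
import Groth.Agent.AlgSp.InfEtale

/-!
# Étale-mono factorization into formally unramified schemes
-/

set_option autoImplicit false
universe u

open CategoryTheory Limits AlgebraicGeometry

namespace Groth.Agent.EtHull16

variable {X Y S : Scheme.{u}}

theorem surjective_specMap_quotient {A : Type u} [CommRing A] (I : Ideal A) (hI : I ^ 2 = ⊥) :
    Surjective (Spec.map (CommRingCat.ofHom (Ideal.Quotient.mk I))) := by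
  refine ⟨fun z => ?_⟩
  change z ∈ Set.range (PrimeSpectrum.comap (Ideal.Quotient.mk I))
  rw [range_comap_of_surjective _ _ Ideal.Quotient.mk_surjective, Ideal.mk_ker]
  intro a ha
  refine (z.isPrime.mem_of_pow_mem 2 ?_)
  have := Ideal.pow_mem_pow ha 2
  rw [hI, Ideal.mem_bot] at this
  rw [this]
  exact zero_mem _

/-- A morphism between an étale and a formally unramified scheme over a base is formally étale. -/
theorem existsUnique_lift {E : Scheme.{u}} (m : E ⟶ Y) (b : Y ⟶ S) [FormallyUnramified b]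
    [Etale (m ≫ b)] (A : Type u) [CommRing A] (I : Ideal A) (hI : I ^ 2 = ⊥)
    (x : Spec (CommRingCat.of (A ⧸ I)) ⟶ E) (y : Spec (CommRingCat.of A) ⟶ Y)
    (h : Spec.map (CommRingCat.ofHom (Ideal.Quotient.mk I)) ≫ y = x ≫ m) :
    ∃! l : Spec (CommRingCat.of A) ⟶ E,
      Spec.map (CommRingCat.ofHom (Ideal.Quotient.mk I)) ≫ l = x ∧ l ≫ m = y := by
  let i := Spec.map (CommRingCat.ofHom (Ideal.Quotient.mk I))
  have : IsClosedImmersion i := IsClosedImmersion.spec_of_surjective _ Ideal.Quotient.mk_surjective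
  have : Surjective i := surjective_specMap_quotient I hI
  obtain ⟨l, ⟨h₁, h₂⟩, hu⟩ := Groth.Agent.S5075.result (m ≫ b) (y ≫ b) i x (by
    rw [reassoc_of% h])
  have hn : IsNilpotent i.ker := ⟨2, AlgSp.InfEtale.ker_specMap_sq I hI⟩
  refine ⟨l, ⟨h₂, FormallyUnramified.hom_ext i hn b (by rw [reassoc_of% h₂, h])
    (by rw [Category.assoc, h₁])⟩, fun l' hl' => hu l' ⟨by rw [reassoc_of% hl'.2], hl'.1⟩⟩

/-- The rings maps of such a morphism are formally étale. -/
theorem formallyEtale_appLE {E : Scheme.{u}} (m : E ⟶ Y) (b : Y ⟶ S) [FormallyUnramified b]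
    [Etale (m ≫ b)] {V : Y.Opens} (hW : IsAffineOpen V) {U : E.Opens} (hW' : IsAffineOpen U)
    (e : U ≤ m ⁻¹ᵁ V) : (m.appLE V U e).hom.FormallyEtale := by
  have h := existsUnique_lift m b
  let ρ := m.appLE V U e
  let _ := ρ.hom.toAlgebra
  have key : ∀ (B : Type u) [CommRing B] [Algebra Γ(Y, V) B] (I : Ideal B), I ^ 2 = ⊥ →
      Function.Bijective (((Ideal.Quotient.mkₐ Γ(Y, V) I).comp) :
        (Γ(E, U) →ₐ[Γ(Y, V)] B) → Γ(E, U) →ₐ[Γ(Y, V)] B ⧸ I) := by
    intro B _ _ I hI
    have hfac : ∀ (C : Type u) [CommRing C] [Algebra Γ(Y, V) C] (χ : Γ(E, U) →ₐ[Γ(Y, V)] C),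
        (Spec.map (CommRingCat.ofHom χ.toRingHom) ≫ hW'.fromSpec) ≫ m =
          Spec.map (CommRingCat.ofHom (algebraMap Γ(Y, V) C)) ≫ hW.fromSpec := by
      intro C _ _ χ
      rw [Category.assoc, ← hW.SpecMap_appLE_fromSpec m hW' e, ← Spec.map_comp_assoc]
      congr 2
      ext r
      exact χ.commutes r
    refine ⟨fun χ χ' hχ => ?_, fun χ => ?_⟩
    · obtain ⟨l, -, hu⟩ := h B I hI
        (Spec.map (CommRingCat.ofHom ((Ideal.Quotient.mkₐ Γ(Y, V) I).comp χ).toRingHom) ≫ hW'.fromSpec)
        (Spec.map (CommRingCat.ofHom (algebraMap Γ(Y, V) B)) ≫ hW.fromSpec) (by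
          rw [hfac _ _, ← Spec.map_comp_assoc]
          rfl)
      have e₁ := hu (Spec.map (CommRingCat.ofHom χ.toRingHom) ≫ hW'.fromSpec)
        ⟨by rw [← Spec.map_comp_assoc]; rfl, hfac _ χ⟩
      have e₂ := hu (Spec.map (CommRingCat.ofHom χ'.toRingHom) ≫ hW'.fromSpec)
        ⟨by rw [← Spec.map_comp_assoc, hχ]; rfl, hfac _ χ'⟩
      have := e₁.trans e₂.symm
      rw [cancel_mono, Spec.map_inj] at this
      exact AlgHom.ext fun x => congr($this x)
    · obtain ⟨l, ⟨h₁, h₂⟩, -⟩ := h B I hI
        (Spec.map (CommRingCat.ofHom χ.toRingHom) ≫ hW'.fromSpec)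
        (Spec.map (CommRingCat.ofHom (algebraMap Γ(Y, V) B)) ≫ hW.fromSpec) (by
          rw [hfac _ _, ← Spec.map_comp_assoc]
          rfl)
      have hsub : Set.range l ⊆ Set.range hW'.fromSpec := by
        rintro _ ⟨z, rfl⟩
        obtain ⟨z₀, rfl⟩ := (surjective_specMap_quotient I hI).surj z
        exact ⟨_, congr($(h₁) z₀).symm⟩
      obtain ⟨n, hn⟩ := Spec.map_surjective (IsOpenImmersion.lift hW'.fromSpec l hsub)
      have hn' : Spec.map n ≫ hW'.fromSpec = l := by rw [hn, IsOpenImmersion.lift_fac]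
      have hcomm : ρ ≫ n = CommRingCat.ofHom (algebraMap Γ(Y, V) B) := by
        apply Spec.map_injective
        rw [← cancel_mono hW.fromSpec, Spec.map_comp_assoc, hW.SpecMap_appLE_fromSpec m hW' e, ← h₂,
          ← hn', Category.assoc]
      refine ⟨{ n.hom with commutes' := fun r => congr($(hcomm).hom r) }, ?_⟩
      have : n ≫ CommRingCat.ofHom (Ideal.Quotient.mk I) = CommRingCat.ofHom χ.toRingHom := by
        apply Spec.map_injective
        rw [← cancel_mono hW'.fromSpec, Spec.map_comp_assoc, hn', h₁]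
      exact AlgHom.ext fun x => congr($(this).hom x)
  exact (Algebra.FormallyEtale.iff_comp_bijective.2 key : Algebra.FormallyEtale Γ(Y, V) Γ(E, U))

/-- A faithfully flat scheme mapping to a formally unramified one factors through an étale one. -/
theorem exists_etale_mono_factor [IsNoetherian S]
    (a : X ⟶ S) [Flat a] [LocallyOfFinitePresentation a] [QuasiCompact a]
    (b : Y ⟶ S) [FormallyUnramified b] (h : X ⟶ Y) (w : h ≫ b = a) :
    ∃ (E : Scheme.{u}) (u : X ⟶ E) (m : E ⟶ Y), Etale (m ≫ b) ∧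
      QuasiCompact (m ≫ b) ∧ QuasiSeparated (m ≫ b) ∧
      Flat u ∧ Surjective u ∧ LocallyOfFinitePresentation u ∧ QuasiCompact u ∧ QuasiSeparated u ∧
      Mono m ∧ LocallyOfFiniteType m ∧ QuasiCompact m ∧ u ≫ m = h := by
  have : IsLocallyNoetherian X := LocallyOfFiniteType.isLocallyNoetherian a
  have : CompactSpace X := QuasiCompact.compactSpace_of_compactSpace a
  have : IsNoetherian X := {}
  have : IsLocallyNoetherian (pullback a a) :=
    LocallyOfFiniteType.isLocallyNoetherian (pullback.fst a a)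
  let e : pullback h h ⟶ pullback a a := pullback.lift (pullback.fst h h) (pullback.snd h h)
    (by rw [← w, pullback.condition_assoc])
  have : IsOpenImmersion e := isOpenImmersion_mapDesc a b h w
  have he : e ≫ pullback.fst a a = pullback.fst h h := pullback.lift_fst _ _ _
  have hfl : Flat (pullback.fst h h) := by rw [← he]; infer_instance
  have hfp : LocallyOfFinitePresentation (pullback.fst h h) := by rw [← he]; infer_instance
  have : LocallyOfFinitePresentation (h ≫ b) := by rw [w]; infer_instance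
  obtain ⟨E, u, m, hs, hf, hp, hm, hum⟩ := Factor.exists_factor h b hfl hfp
  have hc : u ≫ (m ≫ b) = a := by rw [reassoc_of% hum, w]
  have : Flat (u ≫ (m ≫ b)) := by rw [hc]; infer_instance
  have : LocallyOfFinitePresentation (u ≫ (m ≫ b)) := by rw [hc]; infer_instance
  have : Flat (m ≫ b) := Thick.FlatCancel.flat_of_comp u (m ≫ b)
  have : LocallyOfFinitePresentation (m ≫ b) :=
    GrpdLib.FppfSourceDescent.locallyOfFinitePresentation_of_comp_fppf u (m ≫ b)
  have : IsIso (pullback.diagonal m) := (pullback.isIso_diagonal_iff m).mpr hm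
  have : FormallyUnramified m := inferInstance
  have : FormallyUnramified (m ≫ b) := MorphismProperty.comp_mem _ _ _ ‹FormallyUnramified m› ‹_›
  have : Etale (m ≫ b) := Etale.of_formallyUnramified_of_flat (m ≫ b)
  have : IsLocallyNoetherian E := LocallyOfFiniteType.isLocallyNoetherian (m ≫ b)
  have : CompactSpace E := u.surjective.compactSpace u.continuous
  have : IsNoetherian E := {}
  refine ⟨E, u, m, inferInstance, inferInstance, inferInstance, hf, hs, hp, inferInstance,
    inferInstance, hm, locallyOfFiniteType_of_comp m b, inferInstance, hum⟩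

end Groth.Agent.EtHull16
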