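import Groth.Agent.S15997
import Groth.Agent.S5161
import Groth.Agent.EtStruct.Generic
import Groth.Agent.ProperConn.Basic
import Mathlib.AlgebraicGeometry.AlgClosed.Basic
import Mathlib.AlgebraicGeometry.Morphisms.FlatMono

/-!
# Initial objects among admissible étale affine factorizations

For a property of admissible factorizations `X → E → S` (`E → S` étale affine, `X → E`
schematically dominant) that is nonempty and closed under suprema, there is an initial one.
The number of geometric points over the maximal points of `S` is bounded by the number of connected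
components of geometric fibres of `X`; at the maximum all further maps are open immersions, of which
there are finitely many up to their range.
-/

set_option autoImplicit false
set_option maxHeartbeats 800000
universe u

open CategoryTheory Limits AlgebraicGeometry TopologicalSpace

namespace Groth.Agent.EtHull16

noncomputable section

/-- A point with no proper generalisation. -/
def Maximal' {T : Type u} [TopologicalSpace T] (x : T) : Prop := ∀ y, y ⤳ x → y = x

theorem finite_maximal (T : Type u) [TopologicalSpace T] [T0Space T] [QuasiSober T]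
    [NoetherianSpace T] : {x : T | Maximal' x}.Finite := by
  refine Set.Finite.of_finite_image (f := fun x => closure ({x} : Set T))
    (NoetherianSpace.finite_irreducibleComponents.subset ?_) ?_
  · rintro _ ⟨x, hx, rfl⟩
    exact (EtStruct.closure_mem_irreducibleComponents_iff x).mpr hx
  · intro x _ y _ h
    exact (inseparable_iff_closure_eq.mpr h).eq

/-- Every point of a closed set has a generalisation which is maximal within the set. -/
theorem exists_maximal_in {T : Type u} [TopologicalSpace T] [T0Space T] [QuasiSober T] {C : Set T}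
    (hC : IsClosed C) {y : T} (hy : y ∈ C) :
    ∃ z ∈ C, z ⤳ y ∧ ∀ w ∈ C, w ⤳ z → w = z := by
  haveI : QuasiSober C := hC.isClosedEmbedding_subtypeVal.quasiSober
  let y' : C := ⟨y, hy⟩
  have hZ := irreducibleComponent_mem_irreducibleComponents y'
  have hg := hZ.1.isGenericPoint_genericPoint (isClosed_of_mem_irreducibleComponents _ hZ)
  refine ⟨hZ.1.genericPoint.1, hZ.1.genericPoint.2,
    (hg.specializes mem_irreducibleComponent).map continuous_subtype_val, fun w hw hwz => ?_⟩
  exact congrArg Subtype.val ((EtStruct.closure_mem_irreducibleComponents_iff _).mp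
    (by rw [hg.def]; exact hZ) ⟨w, hw⟩ (Topology.IsInducing.subtypeVal.specializes_iff.mp hwz))

/-- A maximal point lies in every dense open subset. -/
theorem maximal_mem_of_dense {T : Type u} [TopologicalSpace T] [T0Space T] [QuasiSober T]
    [NoetherianSpace T] {x : T} (hx : Maximal' x) {W : Set T} (hW : IsOpen W) (hd : Dense W) :
    x ∈ W := by
  let Z := closure ({x} : Set T)
  have hZ : Z ∈ irreducibleComponents T := (EtStruct.closure_mem_irreducibleComponents_iff x).mpr hx
  let R := ⋃ Z' ∈ irreducibleComponents T \ {Z}, Z'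
  have hR : IsClosed R := (NoetherianSpace.finite_irreducibleComponents.subset Set.sdiff_subset).isClosed_biUnion
    fun Z' hZ' => isClosed_of_mem_irreducibleComponents Z' hZ'.1
  have hxR : x ∈ Rᶜ := by
    simp only [R, Set.mem_compl_iff, Set.mem_iUnion, exists_prop, not_exists, not_and]
    intro Z' hZ' hxZ'
    have hg := hZ'.1.1.isGenericPoint_genericPoint (isClosed_of_mem_irreducibleComponents Z' hZ'.1)
    exact hZ'.2 (by rw [Set.mem_singleton_iff, ← hg.def, hx _ (hg.specializes hxZ')])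
  obtain ⟨w, hwR, hwW⟩ := hd.inter_open_nonempty _ hR.isOpen_compl ⟨x, hxR⟩
  have hwZ : w ∈ Z := by
    by_contra hwZ
    refine hwR (Set.mem_biUnion ⟨irreducibleComponent_mem_irreducibleComponents w, fun e => hwZ ?_⟩
      mem_irreducibleComponent)
    rw [Set.mem_singleton_iff] at e
    exact e ▸ mem_irreducibleComponent
  exact (specializes_iff_mem_closure.mpr hwZ).mem_open hW hwW

variable {S : Scheme.{u}}

/-- An algebraic closure of the residue field at `s`. -/
abbrev Ω (s : S) : Type u := AlgebraicClosure (S.residueField s)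

/-- The geometric point at `s`. -/
def pt (s : S) : Spec (CommRingCat.of (Ω s)) ⟶ S :=
  Spec.map (CommRingCat.ofHom (algebraMap (S.residueField s) (Ω s))) ≫ S.fromSpecResidueField s

theorem pt_apply (s : S) (z : ↥(Spec (CommRingCat.of (Ω s)))) : pt s z = s := by
  rw [pt, Scheme.Hom.comp_apply]
  exact Scheme.fromSpecResidueField_apply _ _

/-- Geometric points of `h` over the geometric point at `s`. -/
abbrev Lifts {A : Scheme.{u}} (h : A ⟶ S) (s : S) :=
  {t : Spec (CommRingCat.of (Ω s)) ⟶ A // t ≫ h = pt s}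

/-- The closed point of the spectrum of `Ω s`. -/
abbrev cpt (s : S) : ↥(Spec (CommRingCat.of (Ω s))) := IsLocalRing.closedPoint (Ω s)

theorem lifts_ext {A : Scheme.{u}} (h : A ⟶ S) [LocallyOfFiniteType h] {s : S} (t t' : Lifts h s)
    (H : pullback.lift t.1 (𝟙 _) (by rw [t.2, Category.id_comp]) (cpt s) =
      (pullback.lift t'.1 (𝟙 _) (by rw [t'.2, Category.id_comp]) :
        _ ⟶ pullback h (pt s)) (cpt s)) : t = t' := by
  have e := ext_of_apply_closedPoint_eq (pullback.snd h (pt s)) (pullback.lift_snd _ _ _)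
    (pullback.lift_snd _ _ _) H
  exact Subtype.ext (by simpa [pullback.lift_fst] using congrArg (· ≫ pullback.fst h (pt s)) e)

theorem exists_lift {A B : Scheme.{u}} (v : A ⟶ B) [LocallyOfFiniteType v] {K : Type u} [Field K]
    [IsAlgClosed K] (t : Spec (CommRingCat.of K) ⟶ B)
    (h : t (IsLocalRing.closedPoint K) ∈ Set.range v) :
    ∃ a : Spec (CommRingCat.of K) ⟶ A, a ≫ v = t := by
  obtain ⟨x, hx⟩ := h
  obtain ⟨z, -, -⟩ := Scheme.Pullback.exists_preimage_pullback (f := v) (g := t) x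
    (IsLocalRing.closedPoint K) hx
  haveI : JacobsonSpace ↥(pullback v t) := LocallyOfFiniteType.jacobsonSpace (pullback.snd v t)
  obtain ⟨c, -, hc⟩ := nonempty_inter_closedPoints (Z := (Set.univ : Set ↥(pullback v t)))
    ⟨z, trivial⟩ isClosed_univ.isLocallyClosed
  have hc' : IsClosed ({c} : Set ↥(pullback v t)) := hc
  refine ⟨pointOfClosedPoint (pullback.snd v t) c hc' ≫ pullback.fst v t, ?_⟩
  rw [Category.assoc, pullback.condition, ← Category.assoc]
  exact (congrArg (· ≫ t) (pointOfClosedPoint_comp (pullback.snd v t) c hc')).trans (Category.id_comp t)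

variable [IsNoetherian S] {X : Scheme.{u}} (f : X ⟶ S)

/-- An admissible factorization. -/
structure IsAdm {E : Scheme.{u}} (g : E ⟶ S) (u : X ⟶ E) : Prop where
  et : Etale g
  aff : IsAffineHom g
  dom : IsSchemeTheoreticallyDominant u
  fac : u ≫ g = f

variable {f} [Flat f] [LocallyOfFinitePresentation f] [QuasiCompact f]

theorem isNoetherian_adm {E : Scheme.{u}} {g : E ⟶ S} {u : X ⟶ E} (h : IsAdm f g u) :
    IsNoetherian E := by
  haveI := h.et; haveI := h.aff
  haveI : IsLocallyNoetherian E := LocallyOfFiniteType.isLocallyNoetherian g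
  haveI : CompactSpace E := QuasiCompact.compactSpace_of_compactSpace g
  exact {}

theorem range_u {E : Scheme.{u}} {g : E ⟶ S} {u : X ⟶ E} (h : IsAdm f g u) :
    IsOpen (Set.range u) ∧ Dense (Set.range u) ∧ LocallyOfFiniteType u ∧
      ∀ x : E, Maximal' x → x ∈ Set.range u := by
  haveI := h.et; haveI := h.aff; haveI := h.dom
  haveI := isNoetherian_adm h
  haveI : Flat u := S6671.flat_of_comp_eq u g f h.fac
  haveI : LocallyOfFinitePresentation u :=
    MorphismProperty.of_postcomp (W' := @LocallyOfFiniteType) @LocallyOfFinitePresentation u g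
      inferInstance (h.fac.symm ▸ inferInstance)
  haveI : QuasiCompact u := by
    haveI : QuasiCompact (u ≫ g) := h.fac.symm ▸ inferInstance
    exact QuasiCompact.of_comp u g
  have ho := u.isOpenMap.isOpen_range
  have hd : DenseRange u := (inferInstance : IsDominant u).1
  exact ⟨ho, hd, inferInstance, fun x hx => maximal_mem_of_dense hx ho hd⟩

/-- The maximal points of the base. -/
def maxPts (S : Scheme.{u}) [IsNoetherian S] : Finset S := (finite_maximal ↥S).toFinset

theorem exists_lift_X {E : Scheme.{u}} {g : E ⟶ S} {u : X ⟶ E} (h : IsAdm f g u) {s : S}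
    (hs : Maximal' s) (t : Lifts g s) : ∃ x : Lifts f s, x.1 ≫ u = t.1 := by
  haveI := h.et
  obtain ⟨-, -, hft, hmax⟩ := range_u h
  haveI : LocallyQuasiFinite g := EtStruct.locallyQuasiFinite_of_formallyUnramified g
  have hg : g (t.1 (cpt s)) = s := by
    rw [← Scheme.Hom.comp_apply, t.2, pt_apply]
  obtain ⟨a, ha⟩ := exists_lift u t.1 (hmax _ ((EtStruct.maximal_iff_map_maximal g _).mpr
    (by rw [hg]; exact hs)))
  exact ⟨⟨a, by rw [← h.fac, reassoc_of% ha, t.2]⟩, ha⟩

theorem card_lifts_le {E : Scheme.{u}} {g : E ⟶ S} {u : X ⟶ E} (h : IsAdm f g u) {s : S}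
    (hs : Maximal' s) : Finite (Lifts g s) ∧
      Nat.card (Lifts g s) ≤ Nat.card (_root_.ConnectedComponents ↥(pullback f (pt s))) := by
  haveI := h.et
  haveI : LocallyQuasiFinite g := EtStruct.locallyQuasiFinite_of_formallyUnramified g
  haveI : IsLocallyNoetherian (pullback f (pt s)) :=
    LocallyOfFiniteType.isLocallyNoetherian (pullback.snd f (pt s))
  haveI : CompactSpace ↥(pullback f (pt s)) :=
    QuasiCompact.compactSpace_of_compactSpace (pullback.snd f (pt s))
  haveI : IsNoetherian (pullback f (pt s)) := {}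
  haveI : Finite (_root_.ConnectedComponents ↥(pullback f (pt s))) :=
    ProperConn.finite_connectedComponents_of_noetherian
  haveI : DiscreteTopology ↥(pullback g (pt s)) := by
    have hd := (pullback.snd g (pt s)).isDiscrete_preimage_singleton (cpt s)
    have he : (pullback.snd g (pt s)) ⁻¹' {cpt s} = Set.univ :=
      Set.eq_univ_of_forall fun _ => Subsingleton.elim _ _
    rw [he] at hd
    haveI := hd.to_subtype
    exact (Homeomorph.Set.univ ↥(pullback g (pt s))).discreteTopology
  choose x hx using exists_lift_X h hs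
  let π : pullback f (pt s) ⟶ pullback g (pt s) :=
    pullback.map f (pt s) g (pt s) u (𝟙 _) (𝟙 _) (by rw [Category.comp_id, h.fac]) (by simp)
  let φ : Lifts g s → _root_.ConnectedComponents ↥(pullback f (pt s)) := fun t =>
    ConnectedComponents.mk ((pullback.lift (x t).1 (𝟙 _) (by rw [(x t).2, Category.id_comp]) :
      _ ⟶ pullback f (pt s)) (cpt s))
  have hφ : Function.Injective φ := by
    intro t t' e
    refine lifts_ext g t t' ?_
    have hc := π.continuous.connectedComponentsLift_apply_coe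
    have e' := congrArg π.continuous.connectedComponentsLift e
    rw [hc, hc] at e'
    have key : ∀ r : Lifts g s, (pullback.lift (x r).1 (𝟙 _) (by rw [(x r).2, Category.id_comp]) :
        _ ⟶ pullback f (pt s)) ≫ π = pullback.lift r.1 (𝟙 _) (by rw [r.2, Category.id_comp]) := by
      intro r
      apply pullback.hom_ext
      · rw [Category.assoc, pullback.lift_fst, pullback.lift_fst_assoc, pullback.lift_fst, hx]
      · rw [Category.assoc, pullback.lift_snd, pullback.lift_snd_assoc, pullback.lift_snd,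
          Category.id_comp]
    rw [← key t, ← key t', Scheme.Hom.comp_apply, Scheme.Hom.comp_apply]
    exact e'
  exact ⟨Finite.of_injective φ hφ, Nat.card_le_card_of_injective φ hφ⟩

theorem lifts_bijective {E E' : Scheme.{u}} {g : E ⟶ S} {u : X ⟶ E} {g' : E' ⟶ S} {u' : X ⟶ E'}
    (h : IsAdm f g u) (h' : IsAdm f g' u') (v : E' ⟶ E) (huv : u' ≫ v = u) (hvg : v ≫ g = g')
    {s : S} (hs : Maximal' s) :
    Function.Surjective (fun t : Lifts g' s => (⟨t.1 ≫ v, by rw [Category.assoc, hvg, t.2]⟩ : Lifts g s)) := by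
  intro t
  obtain ⟨x, hx⟩ := exists_lift_X h hs t
  refine ⟨⟨x.1 ≫ u', by rw [Category.assoc, h'.fac, x.2]⟩, Subtype.ext ?_⟩
  change (x.1 ≫ u') ≫ v = t.1
  rw [Category.assoc, huv, hx]

/-- The measure: geometric points over the maximal points. -/
def meas {E : Scheme.{u}} (g : E ⟶ S) : ℕ := ∑ s ∈ maxPts S, Nat.card (Lifts g s)

theorem isOpenImmersion_of_meas_le {E E' : Scheme.{u}} {g : E ⟶ S} {u : X ⟶ E} {g' : E' ⟶ S}
    {u' : X ⟶ E'} (h : IsAdm f g u) (h' : IsAdm f g' u') (v : E' ⟶ E) (huv : u' ≫ v = u)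
    (hvg : v ≫ g = g') (hm : meas g' ≤ meas g) : IsOpenImmersion v := by
  haveI := h.et; haveI := h'.et; haveI := h.aff; haveI := h'.aff
  haveI : Etale (v ≫ g) := hvg.symm ▸ h'.et
  haveI : Etale v := Etale.of_comp v g
  haveI : IsAffineHom (v ≫ g) := hvg.symm ▸ h'.aff
  haveI : IsAffineHom v := IsAffineHom.of_comp v g
  have hbij : ∀ s ∈ maxPts S, ∀ a b : Lifts g' s, a.1 ≫ v = b.1 ≫ v → a = b := by
    intro s hs a b hab
    have hle : ∀ r ∈ maxPts S, Nat.card (Lifts g r) ≤ Nat.card (Lifts g' r) := fun r hr => by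
      haveI := (card_lifts_le h' (Set.Finite.mem_toFinset _ |>.mp hr)).1
      exact Nat.card_le_card_of_surjective _ (lifts_bijective h h' v huv hvg (Set.Finite.mem_toFinset _ |>.mp hr))
    have heq : Nat.card (Lifts g s) = Nat.card (Lifts g' s) :=
      (Finset.sum_eq_sum_iff_of_le hle).mp (le_antisymm (Finset.sum_le_sum hle) hm) s hs
    have hs' : Maximal' s := Set.Finite.mem_toFinset _ |>.mp hs
    haveI := (card_lifts_le h' hs').1
    haveI := (card_lifts_le h hs').1
    have hb := (Nat.bijective_iff_surjective_and_card _).mpr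
      ⟨lifts_bijective h h' v huv hvg hs', heq.symm⟩
    exact hb.1 (Subtype.ext hab)
  haveI : IsIso (pullback.diagonal v) := by
    suffices hsurj : Surjective (pullback.diagonal v) from Flat.isIso_of_surjective_of_mono _
    constructor
    intro d
    by_contra hd
    let D : (pullback v v).Opens := ⟨(Set.range (pullback.diagonal v))ᶜ,
      (pullback.diagonal v).isClosedEmbedding.isClosed_range.isOpen_compl⟩
    let k : D.toScheme ⟶ S := D.ι ≫ pullback.fst v v ≫ g'
    haveI : LocallyQuasiFinite k := EtStruct.locallyQuasiFinite_of_formallyUnramified k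
    obtain ⟨p, -, -, hp⟩ := exists_maximal_in (T := ↥D.toScheme) isClosed_univ
      (y := ⟨d, hd⟩) trivial
    have hs : Maximal' (k p) :=
      (EtStruct.maximal_iff_map_maximal k p).mp fun y hy => hp y trivial hy
    obtain ⟨q, hq⟩ := exists_lift k (pt (k p)) ⟨p, (pt_apply _ _).symm⟩
    have hq2 : q ≫ D.ι ≫ pullback.snd v v ≫ g' = pt (k p) := by
      rw [← hvg, ← pullback.condition_assoc, hvg]; exact hq
    have he := hbij (k p) ((Set.Finite.mem_toFinset _).mpr hs)
      ⟨q ≫ D.ι ≫ pullback.fst v v, (by simp only [Category.assoc]; exact hq)⟩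
      ⟨q ≫ D.ι ≫ pullback.snd v v, by simpa using hq2⟩ (by simp [pullback.condition])
    have he' : q ≫ D.ι = (q ≫ D.ι ≫ pullback.fst v v) ≫ pullback.diagonal v := by
      apply pullback.hom_ext
      · simp
      · simpa using (congrArg Subtype.val he).symm
    exact (q (cpt (k p))).2 ⟨_, (congrArg (fun r => r (cpt (k p))) he').symm⟩
  haveI : Mono v := (pullback.isIso_diagonal_iff v).mp inferInstance
  exact IsOpenImmersion.of_flat_of_mono v

theorem not_mem_of_generalisation {T : Type u} [TopologicalSpace T] {V : Set T} (hV : IsOpen V)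
    {z y : T} (hzy : z ⤳ y) (hz : z ∉ V) : y ∉ V := fun hy => hz (hzy.mem_open hV hy)

/-- For an open immersion which is affine and whose range contains the dense open `W`, a point
which is maximal outside the range is maximal outside `W`. -/
theorem maximal_compl {E E' : Scheme.{u}} [IsNoetherian E] (j : E' ⟶ E) [IsOpenImmersion j]
    [IsAffineHom j] {W : Set E} (hW : IsOpen W) (hd : Dense W) (hWj : W ⊆ Set.range j) {z : E}
    (hz : z ∉ Set.range j) (hzmax : ∀ w, w ∉ Set.range j → w ⤳ z → w = z) :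
    ∀ w, w ∉ W → w ⤳ z → w = z := by
  intro w hwW hwz
  by_contra hne
  obtain ⟨m, -, hmw, hm⟩ := exists_maximal_in (isClosed_univ) (y := w) trivial
  have hmW : m ∈ W := maximal_mem_of_dense (fun y hy => hm y trivial hy) hW hd
  have hmne : m ≠ w := fun e => hwW (e ▸ hmW)
  obtain ⟨_, ⟨O, (hO : IsAffineOpen O), rfl⟩, hzO, -⟩ :=
    E.isBasis_affineOpens.exists_subset_of_mem_open (Set.mem_univ z) isOpen_univ
  haveI := hO.isOpenImmersion_fromSpec
  have hwO : w ∈ O := hwz.mem_open O.2 hzO
  have hmO : m ∈ O := hmw.mem_open O.2 hwO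
  haveI : IsNoetherianRing Γ(E, O) := IsLocallyNoetherian.component_noetherian ⟨O, hO⟩
  let U : (Spec Γ(E, O)).Opens := hO.fromSpec ⁻¹ᵁ j.opensRange
  have hU : IsAffineOpen U := by
    haveI := isAffineHom_isStableUnderBaseChange.{u}
    haveI : IsAffineHom (pullback.snd j hO.fromSpec) :=
      MorphismProperty.of_isPullback (P := @IsAffineHom) (IsPullback.of_hasPullback j hO.fromSpec) inferInstance
    haveI : IsAffine (pullback j hO.fromSpec) := isAffine_of_isAffineHom (pullback.snd j hO.fromSpec)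
    have e : (pullback.snd j hO.fromSpec).opensRange = U := by
      apply Opens.ext
      exact IsOpenImmersion.range_pullbackSnd j hO.fromSpec
    exact e ▸ isAffineOpen_opensRange _
  obtain ⟨p, hp⟩ : z ∈ Set.range hO.fromSpec := by rw [hO.range_fromSpec]; exact hzO
  obtain ⟨q, hq⟩ : w ∈ Set.range hO.fromSpec := by rw [hO.range_fromSpec]; exact hwO
  obtain ⟨r, hr⟩ : m ∈ Set.range hO.fromSpec := by rw [hO.range_fromSpec]; exact hmO
  have hqp : q ⤳ p := hO.fromSpec.isOpenEmbedding.isInducing.specializes_iff.mp (by rw [hq, hp]; exact hwz)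
  have hrq : r ⤳ q := hO.fromSpec.isOpenEmbedding.isInducing.specializes_iff.mp (by rw [hq, hr]; exact hmw)
  have hlt1 : PrimeSpectrum.asIdeal q < PrimeSpectrum.asIdeal p :=
    lt_of_le_of_ne ((PrimeSpectrum.le_iff_specializes q p).mpr hqp) fun e => hne (by
      rw [← hp, ← hq, PrimeSpectrum.ext e])
  have hlt2 : PrimeSpectrum.asIdeal r < PrimeSpectrum.asIdeal q :=
    lt_of_le_of_ne ((PrimeSpectrum.le_iff_specializes r q).mpr hrq) fun e => hmne (by
      rw [← hr, ← hq, PrimeSpectrum.ext e])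
  have hle : (PrimeSpectrum.asIdeal p).height ≤ 1 := S5161.result Γ(E, O) U hU p
    (fun hpU => hz (by rw [← hp]; exact hpU)) fun q' hq' hq'U => by
      refine hO.fromSpec.isOpenEmbedding.injective ((hzmax _ hq'U ?_).trans hp.symm)
      rw [← hp]
      exact ((PrimeSpectrum.le_iff_specializes q' p).mp hq').map hO.fromSpec.continuous
  haveI := p.isPrime; haveI := q.isPrime; haveI := r.isPrime
  have h1 := (Ideal.height_strict_mono_of_isPrime hlt1).trans_le hle
  have h2 := Ideal.height_strict_mono_of_isPrime hlt2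
  rw [ENat.lt_one_iff_eq_zero] at h1
  rw [h1] at h2
  exact not_lt_zero h2

/-- A nonempty property of admissible factorizations closed under suprema has an initial member. -/
theorem exists_initial (P : ∀ (E : Scheme.{u}), (E ⟶ S) → (X ⟶ E) → Prop)
    (hP : ∃ (E : Scheme.{u}) (g : E ⟶ S) (u : X ⟶ E), IsAdm f g u ∧ P E g u)
    (hsup : ∀ (E E' : Scheme.{u}) (g : E ⟶ S) (u : X ⟶ E) (g' : E' ⟶ S) (u' : X ⟶ E'),
      IsAdm f g u → P E g u → IsAdm f g' u' → P E' g' u' →
      ∃ (E'' : Scheme.{u}) (g'' : E'' ⟶ S) (u'' : X ⟶ E'') (a : E'' ⟶ E) (b : E'' ⟶ E'),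
        IsAdm f g'' u'' ∧ P E'' g'' u'' ∧ u'' ≫ a = u ∧ u'' ≫ b = u' ∧ a ≫ g = g'' ∧ b ≫ g' = g'') :
    ∃ (E : Scheme.{u}) (g : E ⟶ S) (u : X ⟶ E), IsAdm f g u ∧ P E g u ∧
      ∀ (E' : Scheme.{u}) (g' : E' ⟶ S) (u' : X ⟶ E'), IsAdm f g' u' → P E' g' u' →
        ∃ v : E ⟶ E', u ≫ v = u' ∧ v ≫ g' = g := by
  classical
  let B := ∑ s ∈ maxPts S, Nat.card (_root_.ConnectedComponents ↥(pullback f (pt s)))
  let Q : Set ℕ := {n | ∃ (E : Scheme.{u}) (g : E ⟶ S) (u : X ⟶ E), IsAdm f g u ∧ P E g u ∧ meas g = n}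
  have hQb : BddAbove Q := ⟨B, by
    rintro n ⟨E, g, u, h, -, rfl⟩
    exact Finset.sum_le_sum fun s hs => (card_lifts_le h ((Set.Finite.mem_toFinset _).mp hs)).2⟩
  have hQn : Q.Nonempty := by
    obtain ⟨E, g, u, h, hp⟩ := hP
    exact ⟨_, E, g, u, h, hp, rfl⟩
  obtain ⟨E, g, u, h, hp, hm⟩ := Nat.sSup_mem hQn hQb
  haveI := isNoetherian_adm h
  haveI := h.aff
  obtain ⟨hWo, hWd, -, -⟩ := range_u h
  let W : Set E := Set.range u
  let M : Set E := {z | z ∉ W ∧ ∀ w, w ∉ W → w ⤳ z → w = z}
  have hM : M.Finite := by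
    have hC : IsClosed Wᶜ := hWo.isClosed_compl
    haveI : QuasiSober ↥(Wᶜ) := hC.isClosedEmbedding_subtypeVal.quasiSober
    haveI : NoetherianSpace ↥(Wᶜ) := Topology.IsInducing.subtypeVal.noetherianSpace
    refine ((finite_maximal ↥(Wᶜ)).image Subtype.val).subset ?_
    rintro z ⟨hz, hzm⟩
    exact ⟨⟨z, hz⟩, fun y hy => Subtype.ext (hzm y y.2 (hy.map continuous_subtype_val)), rfl⟩
  let Φ : Set E → ℕ := fun V => {z ∈ M | z ∉ V}.ncard
  let R : Set ℕ := {n | ∃ (E' : Scheme.{u}) (g' : E' ⟶ S) (u' : X ⟶ E') (v : E' ⟶ E),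
    IsAdm f g' u' ∧ P E' g' u' ∧ u' ≫ v = u ∧ v ≫ g = g' ∧ Φ (Set.range v) = n}
  have hRb : BddAbove R := ⟨M.ncard, by
    rintro n ⟨E', g', u', v, -, -, -, -, rfl⟩
    exact Set.ncard_le_ncard (Set.sep_subset _ _) hM⟩
  have hRn : R.Nonempty := ⟨_, E, g, u, 𝟙 E, h, hp, Category.comp_id u, Category.id_comp g, rfl⟩
  obtain ⟨E₁, g₁, u₁, v₁, h₁, hp₁, huv₁, hvg₁, hn⟩ := Nat.sSup_mem hRn hRb
  refine ⟨E₁, g₁, u₁, h₁, hp₁, fun E' g' u' h' hp' => ?_⟩
  obtain ⟨E₂, g₂, u₂, a, b, h₂, hp₂, hua, hub, hag, hbg⟩ := hsup E₁ E' g₁ u₁ g' u' h₁ hp₁ h' hp'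
  have hav : u₂ ≫ a ≫ v₁ = u := by rw [reassoc_of% hua, huv₁]
  have havg : (a ≫ v₁) ≫ g = g₂ := by rw [Category.assoc, hvg₁, hag]
  have hmle : ∀ {D : Scheme.{u}} {gd : D ⟶ S} {ud : X ⟶ D}, IsAdm f gd ud → P D gd ud →
      meas gd ≤ meas g := fun hd hpd => hm.ge.trans' (le_csSup hQb ⟨_, _, _, hd, hpd, rfl⟩)
  haveI : IsOpenImmersion v₁ := isOpenImmersion_of_meas_le h h₁ v₁ huv₁ hvg₁ (hmle h₁ hp₁)
  haveI : IsOpenImmersion (a ≫ v₁) := isOpenImmersion_of_meas_le h h₂ _ hav havg (hmle h₂ hp₂)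
  haveI : IsOpenImmersion a := IsOpenImmersion.of_comp a v₁
  haveI : IsAffineHom v₁ := by
    haveI := h₁.aff
    haveI : IsAffineHom (v₁ ≫ g) := hvg₁.symm ▸ h₁.aff
    exact IsAffineHom.of_comp v₁ g
  have hWv : W ⊆ Set.range v₁ := by
    rintro _ ⟨x, rfl⟩
    exact ⟨u₁ x, by rw [← huv₁]; rfl⟩
  have hsub : Set.range (a ≫ v₁) ⊆ Set.range v₁ := by
    rintro _ ⟨x, rfl⟩; exact ⟨a x, rfl⟩
  have hΦsub : {z ∈ M | z ∉ Set.range v₁} ⊆ {z ∈ M | z ∉ Set.range (a ≫ v₁)} :=
    fun z hz => ⟨hz.1, fun h => hz.2 (hsub h)⟩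
  have hΦle : Φ (Set.range (a ≫ v₁)) ≤ Φ (Set.range v₁) :=
    hn.ge.trans' (le_csSup hRb ⟨E₂, g₂, u₂, a ≫ v₁, h₂, hp₂, hav, havg, rfl⟩)
  have heq := Set.eq_of_subset_of_ncard_le hΦsub hΦle (hM.subset (Set.sep_subset _ _))
  haveI : IsAffineHom (a ≫ v₁) := by
    haveI := h₂.aff
    haveI : IsAffineHom ((a ≫ v₁) ≫ g) := havg.symm ▸ h₂.aff
    exact IsAffineHom.of_comp (a ≫ v₁) g
  have hge : Set.range v₁ ⊆ Set.range (a ≫ v₁) := by
    intro y hy
    by_contra hy'
    obtain ⟨z, hz, hzy, hzmax⟩ := exists_maximal_in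
      ((a ≫ v₁).isOpenEmbedding.isOpen_range.isClosed_compl) hy'
    have hWa : W ⊆ Set.range (a ≫ v₁) := by
      rintro _ ⟨x, rfl⟩
      exact ⟨u₂ x, by rw [← hav]; rfl⟩
    have hzM : z ∈ M := ⟨fun hzW => hz (hWa hzW),
      maximal_compl (a ≫ v₁) hWo hWd hWa hz hzmax⟩
    have hz' : z ∈ {z ∈ M | z ∉ Set.range v₁} := heq.symm ▸ ⟨hzM, hz⟩
    exact not_mem_of_generalisation v₁.isOpenEmbedding.isOpen_range hzy hz'.2 hy
  haveI : Surjective a := ⟨fun y => by
    obtain ⟨x, hx⟩ := hge ⟨y, rfl⟩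
    exact ⟨x, v₁.isOpenEmbedding.injective hx⟩⟩
  haveI : QuasiCompact a := QuasiCompact.of_comp a v₁
  haveI : IsIso a := Flat.isIso_of_surjective_of_mono a
  refine ⟨inv a ≫ b, ?_, ?_⟩
  · rw [← hua, Category.assoc, IsIso.hom_inv_id_assoc, hub]
  · rw [Category.assoc, hbg, ← hag, IsIso.inv_hom_id_assoc]

end

end Groth.Agent.EtHull16
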