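import Groth.Agent.EtHull16.FormEt2
import Mathlib.AlgebraicGeometry.Morphisms.UniversallyOpen

/-!
# Properties of initial étale factorizations
-/

set_option autoImplicit false
universe u

open CategoryTheory Limits AlgebraicGeometry

namespace Groth.Agent.EtHull16

variable {X P S : Scheme.{u}}

theorem flat_lfp_of_comp_etale (ϖ : X ⟶ P) (c : P ⟶ S) (a : X ⟶ S) [Etale c] [Flat a]
    [LocallyOfFinitePresentation a] (h : ϖ ≫ c = a) : Flat ϖ ∧ LocallyOfFinitePresentation ϖ := by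
  let G : X ⟶ pullback a c := pullback.lift (𝟙 X) ϖ (by rw [Category.id_comp, h])
  have : Etale (G ≫ pullback.fst a c) := by rw [pullback.lift_fst]; infer_instance
  have : Etale G := Etale.of_comp G (pullback.fst a c)
  have : Flat (pullback.snd a c) := inferInstance
  haveI : LocallyOfFinitePresentation (pullback.snd a c) :=
    inferInstance
  have e : ϖ = G ≫ pullback.snd a c := (pullback.lift_snd _ _ _).symm
  exact ⟨by rw [e]; infer_instance, by rw [e]; infer_instance⟩

theorem flat_of_comp_etale (ϖ : X ⟶ P) (c : P ⟶ S) (a : X ⟶ S) [Etale c] [Flat a]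
    [LocallyOfFinitePresentation a] (h : ϖ ≫ c = a) : Flat ϖ :=
  (flat_lfp_of_comp_etale ϖ c a h).1

theorem lfp_of_comp_etale (ϖ : X ⟶ P) (c : P ⟶ S) (a : X ⟶ S) [Etale c] [Flat a]
    [LocallyOfFinitePresentation a] (h : ϖ ≫ c = a) : LocallyOfFinitePresentation ϖ :=
  (flat_lfp_of_comp_etale ϖ c a h).2

/-- The initial map to an étale scheme is surjective. -/
theorem surjective_of_initial [IsNoetherian S] (a : X ⟶ S) (c : P ⟶ S) [Etale c] [QuasiCompact c]
    (ϖ : X ⟶ P) (hϖ : ϖ ≫ c = a) [Flat ϖ] [LocallyOfFinitePresentation ϖ]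
    (hinit : ∀ (E : Scheme.{u}) (e : E ⟶ S), Etale e → QuasiCompact e → QuasiSeparated e →
      ∀ k : X ⟶ E, k ≫ e = a → ∃! l : P ⟶ E, ϖ ≫ l = k ∧ l ≫ e = c) : Surjective ϖ := by
  have : IsLocallyNoetherian P := LocallyOfFiniteType.isLocallyNoetherian c
  have : CompactSpace P := QuasiCompact.compactSpace_of_compactSpace c
  have : IsNoetherian P := {}
  have : QuasiSeparated c := inferInstance
  let Q : P.Opens := ⟨Set.range ϖ, ϖ.isOpenMap.isOpen_range⟩
  let k : X ⟶ Q := IsOpenImmersion.lift Q.ι ϖ (by rw [Scheme.Opens.range_ι]; exact subset_rfl)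
  have hk : k ≫ Q.ι = ϖ := IsOpenImmersion.lift_fac ..
  have : IsLocallyNoetherian Q := isLocallyNoetherian_of_isOpenImmersion Q.ι
  have : CompactSpace Q := isCompact_iff_compactSpace.mp (TopologicalSpace.NoetherianSpace.isCompact _)
  have : IsNoetherian Q := {}
  obtain ⟨r, ⟨hr₁, hr₂⟩, -⟩ := hinit Q (Q.ι ≫ c) inferInstance inferInstance inferInstance k
    (by rw [reassoc_of% hk, hϖ])
  obtain ⟨i, -, hu⟩ := hinit P c inferInstance inferInstance inferInstance ϖ hϖ
  have e : r ≫ Q.ι = 𝟙 P := (hu (r ≫ Q.ι) ⟨by rw [reassoc_of% hr₁, hk],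
    by rw [Category.assoc, hr₂]⟩).trans (hu (𝟙 P) ⟨Category.comp_id _, Category.id_comp _⟩).symm
  refine ⟨fun p => ?_⟩
  have : p ∈ Set.range Q.ι := ⟨r p, by rw [← Scheme.Hom.comp_apply, e]; rfl⟩
  rwa [Scheme.Opens.range_ι] at this

end Groth.Agent.EtHull16
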