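import Groth.Agent.PerfSch.Perfection
import Groth.Agent.LimLib.Existence

/-!
# The perfection as the limit of the Frobenius tower
-/

set_option autoImplicit false
universe u

open CategoryTheory CategoryTheory.Limits AlgebraicGeometry Opposite

namespace Groth.Agent.EtHull16.PerfTower

variable {p : ℕ} [Fact p.Prime]

/-- Iterated absolute Frobenius. -/
noncomputable def Fn (X : Scheme.{u}) [FrobSch.IsCharP X p] : ℕ → (X ⟶ X)
  | 0 => 𝟙 X
  | n + 1 => Fn X n ≫ FrobSch.frob X p

variable {X Y : Scheme.{u}} [FrobSch.IsCharP X p] [FrobSch.IsCharP Y p]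

theorem Fn_add (m n : ℕ) : Fn (p := p) X (m + n) = Fn (p := p) X m ≫ Fn (p := p) X n := by
  induction n with
  | zero => simp [Fn]
  | succ n ih => simp [Fn, ← Nat.add_assoc, ih]

@[reassoc]
theorem Fn_comp (f : X ⟶ Y) (n : ℕ) : Fn (p := p) X n ≫ f = f ≫ Fn (p := p) Y n := by
  induction n with
  | zero => simp [Fn]
  | succ n ih => simp [Fn, FrobSch.frob_comp, reassoc_of% ih]

theorem isIso_Fn (h : FrobSch.IsPerfect X p) (n : ℕ) : IsIso (Fn (p := p) X n) := by
  have : IsIso (FrobSch.frob X p) := h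
  induction n with
  | zero => exact inferInstanceAs (IsIso (𝟙 X))
  | succ n ih => exact inferInstanceAs (IsIso (Fn X n ≫ FrobSch.frob X p))

theorem isAffineHom_Fn (n : ℕ) : IsAffineHom (Fn (p := p) X n) := by
  have : IsAffineHom (FrobSch.frob X p) := ⟨fun _ hU => hU⟩
  induction n with
  | zero => exact inferInstanceAs (IsAffineHom (𝟙 X))
  | succ n ih => exact inferInstanceAs (IsAffineHom (Fn X n ≫ FrobSch.frob X p))

variable (p) (X) in
/-- The tower of absolute Frobenii. -/
noncomputable abbrev tower : (ULift.{u} ℕ)ᵒᵖ ⥤ Scheme.{u} where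
  obj _ := X
  map {i j} _ := Fn (p := p) X (i.unop.down - j.unop.down)
  map_id i := by simp [Fn]
  map_comp {i j k} f g := by
    have h₁ : j.unop.down ≤ i.unop.down := (leOfHom f.unop :)
    have h₂ : k.unop.down ≤ j.unop.down := (leOfHom g.unop :)
    rw [← Fn_add]
    congr 1
    omega

instance (i j : (ULift.{u} ℕ)ᵒᵖ) (f : i ⟶ j) : IsAffineHom ((tower p X).map f) :=
  isAffineHom_Fn (X := X) _

variable {P : Scheme.{u}} [FrobSch.IsCharP P p] {π : P ⟶ X}

/-- The `n`-th projection of the perfection to the tower. -/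
noncomputable def proj (hπ : FrobSch.IsPerfection π p) (n : ℕ) : P ⟶ X :=
  haveI := isIso_Fn hπ.1 n
  inv (Fn (p := p) P n) ≫ π

@[reassoc]
theorem Fn_proj (hπ : FrobSch.IsPerfection π p) (n : ℕ) : Fn (p := p) P n ≫ proj hπ n = π := by
  haveI := isIso_Fn hπ.1 n
  simp [proj]

@[reassoc]
theorem proj_Fn (hπ : FrobSch.IsPerfection π p) (n : ℕ) : proj hπ n ≫ Fn (p := p) X n = π := by
  rw [← Fn_comp, Fn_proj]

theorem isPerfection_proj (hπ : FrobSch.IsPerfection π p) (n : ℕ) :
    FrobSch.IsPerfection (proj hπ n) p := by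
  have := isIso_Fn hπ.1 n
  refine ⟨hπ.1, fun T _ hT => ⟨fun a b e => ?_, fun h => ?_⟩⟩
  · have e' : a ≫ proj hπ n = b ≫ proj hπ n := e
    refine PerfSch.Perfection.hom_ext hπ hT ?_
    rw [← proj_Fn hπ n, reassoc_of% e']
  · obtain ⟨g, hg⟩ := PerfSch.Perfection.exists_lift hπ hT h
    refine ⟨g ≫ Fn (p := p) P n, ?_⟩
    simp only [Category.assoc, Fn_proj, hg]

theorem Fn_succ (n : ℕ) : Fn (p := p) X (n + 1) = Fn (p := p) X n ≫ FrobSch.frob X p := rfl

/-- The leg of a cone over the tower in degree `n`. -/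
noncomputable def leg (s : Cone (tower p X)) (n : ℕ) : s.pt ⟶ X := s.π.app (op ⟨n⟩)

theorem leg_Fn (s : Cone (tower p X)) {m n : ℕ} (h : n ≤ m) :
    leg s m ≫ Fn (p := p) X (m - n) = leg s n :=
  s.w (j := op ⟨m⟩) (j' := op ⟨n⟩) (homOfLE (show (⟨n⟩ : ULift.{u} ℕ) ≤ ⟨m⟩ from h)).op

theorem w_succ (s : Cone (tower p X)) (n : ℕ) :
    leg s (n + 1) ≫ FrobSch.frob X p = leg s n := by
  rw [← leg_Fn s (Nat.le_succ n), Nat.succ_eq_add_one, Nat.add_sub_cancel_left, Fn_succ]
  simp [Fn]

theorem w_zero (s : Cone (tower p X)) (n : ℕ) : leg s n ≫ Fn (p := p) X n = leg s 0 := by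
  have := leg_Fn s (Nat.zero_le n)
  rwa [Nat.sub_zero] at this

theorem leg_ext {s : Cone (tower p X)} (hs : IsLimit s) {T : Scheme.{u}} {a b : T ⟶ s.pt}
    (h : ∀ n, a ≫ leg s n = b ≫ leg s n) : a = b :=
  hs.hom_ext fun i => h i.unop.down

/-- Build a cone over the tower from compatible legs. -/
noncomputable abbrev mkCone {T : Scheme.{u}} (t : ℕ → (T ⟶ X))
    (ht : ∀ n, t (n + 1) ≫ FrobSch.frob X p = t n) : Cone (tower p X) where
  pt := T
  π :=
    { app := fun i => t i.unop.down
      naturality := fun i j f => by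
        have h : j.unop.down ≤ i.unop.down := (leOfHom f.unop :)
        have key : ∀ d n, t (n + d) ≫ Fn (p := p) X d = t n := by
          intro d
          induction d with
          | zero => intro n; simp [Fn]
          | succ d ih =>
            intro n
            rw [Fn_succ, show n + (d + 1) = (n + 1) + d by omega, reassoc_of% (ih (n + 1)), ht]
        show 𝟙 T ≫ t j.unop.down = t i.unop.down ≫ Fn (p := p) X (i.unop.down - j.unop.down)
        rw [Category.id_comp]
        conv_rhs => rw [← Nat.add_sub_of_le h, Nat.add_sub_cancel_left]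
        exact (key _ _).symm }

@[simp] theorem leg_mkCone {T : Scheme.{u}} (t : ℕ → (T ⟶ X))
    (ht : ∀ n, t (n + 1) ≫ FrobSch.frob X p = t n) (n : ℕ) : leg (mkCone t ht) n = t n := rfl

theorem fac_leg {c : Cone (tower p X)} (hc : IsLimit c) (s : Cone (tower p X)) (n : ℕ) :
    hc.lift s ≫ leg c n = leg s n := hc.fac s _

theorem proj_frob (hπ : FrobSch.IsPerfection π p) (n : ℕ) :
    proj hπ (n + 1) ≫ FrobSch.frob X p = proj hπ n := by
  have := isIso_Fn (p := p) hπ.1 (n + 1)
  rw [← cancel_epi (Fn (p := p) P (n + 1)), Fn_proj_assoc]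
  rw [Fn_succ, Category.assoc, FrobSch.frob_comp p (proj hπ n), Fn_proj_assoc]

variable (p) in
/-- The cone of the perfection over the tower. -/
noncomputable abbrev cone (hπ : FrobSch.IsPerfection π p) : Cone (tower p X) :=
  mkCone (proj hπ) (proj_frob hπ)

/-- The perfection is the limit of the tower. -/
theorem isLimit_cone (hπ : FrobSch.IsPerfection π p) : Nonempty (IsLimit (cone p hπ)) := by
  have : HasLimit (tower p X) := LimLib.Existence.hasLimit _
  let c := limit.cone (tower p X)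
  let hc : IsLimit c := limit.isLimit (tower p X)
  haveI : FrobSch.IsCharP c.pt p := FrobSch.IsCharP.of_hom (leg c 0) p
  let φ : c.pt ⟶ c.pt := hc.lift (mkCone (fun n => leg c (n + 1)) fun n => w_succ c (n + 1))
  have hφ : ∀ n, φ ≫ leg c n = leg c (n + 1) := fun n => fac_leg hc _ n
  have hperf : FrobSch.IsPerfect c.pt p := by
    refine ⟨φ, leg_ext hc fun n => ?_, leg_ext hc fun n => ?_⟩
    · rw [Category.assoc, hφ, Category.id_comp, FrobSch.frob_comp p, w_succ]
    · rw [Category.assoc, Category.id_comp, FrobSch.frob_comp p, reassoc_of% hφ, w_succ]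
  have hc₀ : FrobSch.IsPerfection (leg c 0) p := by
    refine ⟨hperf, fun T _ hT => ⟨fun a b e => leg_ext hc fun n => ?_, fun h => ?_⟩⟩
    · have e' : a ≫ leg c 0 = b ≫ leg c 0 := e
      have := isIso_Fn (p := p) hT n
      rw [← cancel_epi (Fn (p := p) T n), Fn_comp, Fn_comp, Category.assoc, Category.assoc, w_zero]
      exact e'
    · have key : ∀ n, (haveI := isIso_Fn (p := p) hT (n + 1); inv (Fn (p := p) T (n + 1)) ≫ h) ≫
          FrobSch.frob X p = (haveI := isIso_Fn (p := p) hT n; inv (Fn (p := p) T n) ≫ h) := by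
        intro n
        have := isIso_Fn (p := p) hT (n + 1)
        have := isIso_Fn (p := p) hT n
        rw [← cancel_epi (Fn (p := p) T (n + 1))]
        simp only [Category.assoc, IsIso.hom_inv_id_assoc]
        rw [Fn_succ, Category.assoc, ← FrobSch.frob_comp p h]
        conv_rhs => rw [← Category.assoc (Fn (p := p) T n), Fn_comp (FrobSch.frob T p) n,
          Category.assoc, IsIso.hom_inv_id_assoc]
      let t : ℕ → (T ⟶ X) := fun n =>
        haveI := isIso_Fn (p := p) hT n
        inv (Fn (p := p) T n) ≫ h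
      refine ⟨hc.lift (mkCone t key), ?_⟩
      show hc.lift (mkCone t key) ≫ leg c 0 = h
      rw [fac_leg, leg_mkCone]
      show (haveI := isIso_Fn (p := p) hT 0; inv (Fn (p := p) T 0) ≫ h) = h
      have := isIso_Fn (p := p) hT 0
      rw [IsIso.inv_comp_eq]
      exact (Category.id_comp h).symm
  obtain ⟨e, he⟩ := PerfSch.Perfection.exists_iso hπ hc₀
  refine ⟨hc.ofIsoLimit (Cone.ext e fun i => ?_).symm⟩
  show proj hπ i.unop.down = e.hom ≫ leg c i.unop.down
  have := isIso_Fn (p := p) hπ.1 i.unop.down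
  rw [← cancel_epi (Fn (p := p) P i.unop.down), Fn_proj, Fn_comp, Category.assoc, w_zero, he]

/-- A base change of a perfection followed by a perfection is a perfection. -/
theorem isPerfection_baseChange {Z Z₀ W : Scheme.{u}} [FrobSch.IsCharP Z p] {πZ : Z ⟶ Z₀}
    (hZ : FrobSch.IsPerfection πZ p) (hπ : FrobSch.IsPerfection π p) {g : Z₀ ⟶ W} {f₀ : Z₀ ⟶ P}
    {w : W ⟶ X} (sq : IsPullback g f₀ w π) : FrobSch.IsPerfection (πZ ≫ g) p := by
  refine ⟨hZ.1, fun T _ hT => ⟨fun a b e => ?_, fun h => ?_⟩⟩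
  · have e' : (a ≫ πZ) ≫ g = (b ≫ πZ) ≫ g := by simpa only [Category.assoc] using e
    refine PerfSch.Perfection.hom_ext hZ hT (sq.hom_ext e' (PerfSch.Perfection.hom_ext hπ hT ?_))
    simp only [Category.assoc, ← sq.w]
    simpa only [Category.assoc] using congrArg (· ≫ w) e'
  · obtain ⟨a, ha⟩ := PerfSch.Perfection.exists_lift hπ hT (h ≫ w)
    obtain ⟨b, hb⟩ := PerfSch.Perfection.exists_lift hZ hT (sq.lift h a ha.symm)
    refine ⟨b, ?_⟩
    show b ≫ πZ ≫ g = h
    rw [reassoc_of% hb, sq.lift_fst]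

end Groth.Agent.EtHull16.PerfTower
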